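import Cfsg.Agent.INV.Pyr.Quad

/-!
A homocyclic group of rank three with an action of the alternating group of degree four.
-/

set_option autoImplicit false

namespace CL.Pyr

section
variable {W : Type*} [AddCommGroup W]

/-- the element of order three on the last two coordinates -/
def dl (W : Type*) [AddCommGroup W] : W × ZMod 2 × ZMod 2 ≃+ W × ZMod 2 × ZMod 2 where
  toFun v := (v.1, v.2.2, v.2.1 + v.2.2)
  invFun v := (v.1, v.2.1 + v.2.2, v.2.1)
  left_inv v := by
    obtain ⟨w, a, b⟩ := v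
    simp only [Prod.mk.injEq, true_and, and_true]
    revert a b; decide
  right_inv v := by
    obtain ⟨w, a, b⟩ := v
    simp only [Prod.mk.injEq, true_and]
    revert a b; decide
  map_add' v w := by simp only [Prod.fst_add, Prod.snd_add, Prod.mk_add_mk]; congr 2; ring

theorem dl_apply (v : W × ZMod 2 × ZMod 2) : dl W v = (v.1, v.2.2, v.2.1 + v.2.2) := rfl

/-- the first transvection -/
def t1 : V3 ≃+ V3 := tv (dt (0, 0, 1)) (1, 0, 0) (by decide)

/-- the second transvection -/
def t2 : V3 ≃+ V3 := tv (dt (0, 1, 0)) (1, 0, 0) (by decide)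

end

variable {A : Type*} [AddCommGroup A]

theorem exists_two_smul {w : A} {n : ℕ} (h : 2 ^ n • w = 0) (hw : w ≠ 0) :
    ∃ i : ℕ, 2 ^ i • w ≠ 0 ∧ 2 ^ i • w + 2 ^ i • w = 0 := by
  induction n with
  | zero => exact absurd (by simpa using h) hw
  | succ n ih =>
    by_cases h1 : 2 ^ n • w = 0
    · exact ih h1
    · exact ⟨n, h1, by rw [← add_smul, ← two_mul, ← pow_succ', h]⟩

theorem ab_three (ι : V3 →+ A) (hi : Function.Injective ι) (hΩ : ∀ a, a + a = 0 → ∃ v, ι v = a)
    {e : ℕ} (he : ∀ a : A, 2 ^ (e + 1) • a = 0) (hπ : ∀ v, ∃ a, 2 ^ e • a = ι v)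
    {s t d : A →+ A} (ss : ∀ a, s (s a) = a) (tt : ∀ a, t (t a) = a) (st : ∀ a, t (s a) = s (t a))
    (ds : ∀ a, d (s a) = t (d a)) (dt' : ∀ a, d (t a) = s (t (d a))) (dd : ∀ a, d (d (d a)) = a)
    (hs : ∀ v, s (ι v) = ι (t1 v)) (ht : ∀ v, t (ι v) = ι (t2 v))
    (hd : ∀ v, d (ι v) = ι (dl _ v)) {a c : A} (ha : s a = a)
    (hc : c + s c + t (c + s c) = (a + t a) + d (a + t a) + d (d (a + t a))) :
    ∃ b, a = b + s b := by
  have fx : ∀ b, s b = b → t b = b → d b = b := by
    intro b h1 h2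
    by_contra hne
    have k2 : t (d b) = d b := by rw [← ds, h1]
    have k1 : s (d b) = d b := by rw [← k2, ← dt', h2, k2]
    obtain ⟨i, hi0, hi2⟩ := exists_two_smul (he (d b - b)) (sub_ne_zero.mpr hne)
    obtain ⟨v, hv⟩ := hΩ _ hi2
    have : ∀ v : V3, t1 v = v → t2 v = v → v + dl _ v + dl _ (dl _ v) = 0 → v = 0 := by decide
    refine hi0 ?_
    rw [← hv, this v (hi ?_) (hi ?_) (hi ?_), map_zero]
    · rw [← hs, hv, map_nsmul, map_sub, k1, h1]
    · rw [← ht, hv, map_nsmul, map_sub, k2, h2]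
    · rw [map_add, map_add, ← hd (dl _ v), ← hd, hv, map_zero]
      simp only [map_nsmul, map_sub, dd, ← smul_add]
      rw [show d b - b + (d (d b) - d b) + (b - d (d b)) = 0 by abel, smul_zero]
  let T : A →+ A := AddMonoidHom.id A + s + t.comp (AddMonoidHom.id A + s)
  have hT : ∀ x, T x = x + s x + (t x + s (t x)) := fun x => by simp [T, st]
  have sT : ∀ x, s (T x) = T x := fun x => by simp only [hT, map_add, ss]; abel
  have tT : ∀ x, t (T x) = T x := fun x => by simp only [hT, map_add, st, tt]; abel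
  have Ts : ∀ x, T (s x) = T x := fun x => by simp only [hT, st, ss]; abel
  have Td : ∀ x, T (d x) = T x := fun x => by
    rw [← fx _ (sT x) (tT x)]
    simp only [hT, map_add, ds, dt', st, tt]; abel
  have sq : ∀ i, i ≤ e → ∀ x : A, 2 ^ i • x = 0 → ∃ b, x = b + b := by
    intro i
    induction i with
    | zero => exact fun _ x hx => ⟨0, by simpa using hx⟩
    | succ i ih =>
      intro hie x hx
      obtain ⟨v, hv⟩ := hΩ (2 ^ i • x) (by rw [← add_smul, ← two_mul, ← pow_succ', hx])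
      obtain ⟨y, hy⟩ := hπ v
      obtain ⟨j, rfl⟩ : ∃ j, e = i + (j + 1) := ⟨e - (i + 1), by omega⟩
      obtain ⟨b, hb⟩ := ih (by omega) (x - 2 ^ (j + 1) • y)
        (by rw [smul_sub, smul_smul, ← pow_add, hy, hv, sub_self])
      refine ⟨b + 2 ^ j • y, ?_⟩
      rw [sub_eq_iff_eq_add.mp hb, pow_succ, mul_two, add_smul]; abel
  have T2 : ∀ x, ∃ b, T x = T b + T b := by
    intro x
    obtain ⟨v, hv⟩ := hΩ (2 ^ e • x) (by rw [← add_smul, ← two_mul, ← pow_succ', he])
    have : ∀ v : V3, ∃ v1 v2, v = t1 v1 - v1 + (dl _ v2 - v2) := by decide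
    obtain ⟨v1, v2, rfl⟩ := this v
    obtain ⟨y1, h1⟩ := hπ v1
    obtain ⟨y2, h2⟩ := hπ v2
    obtain ⟨b, hb⟩ := sq e le_rfl (x - (s y1 - y1 + (d y2 - y2))) (by
      rw [smul_sub, ← hv, map_add, map_sub, map_sub, ← hs, ← hd, ← h1, ← h2]
      simp only [map_nsmul, smul_add, smul_sub, sub_self])
    refine ⟨b, ?_⟩
    rw [← map_add, ← hb]
    simp only [map_sub, map_add, Ts, Td, sub_self, add_zero, sub_zero]
  have T0 : ∀ x, T x = 0 := by
    have : ∀ i : ℕ, ∀ x, ∃ b, T x = 2 ^ i • T b := by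
      intro i
      induction i with
      | zero => exact fun x => ⟨x, by simp⟩
      | succ i ih =>
        intro x
        obtain ⟨b, hb⟩ := ih x
        obtain ⟨b', hb'⟩ := T2 b
        exact ⟨b', by rw [hb, hb', pow_succ, mul_two, add_smul, smul_add]⟩
    intro x
    obtain ⟨b, hb⟩ := this (e + 1) x
    rw [hb, he]
  have hβ : a + t a = 0 := by
    have h1 : d (a + t a) = a + t a :=
      fx _ (by rw [map_add, ← st, ha]) (by rw [map_add, tt, add_comm])
    have h2 : c + s c + t (c + s c) = 0 := T0 c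
    rw [h2, h1, h1] at hc
    by_contra hne
    obtain ⟨i, hi0, hi2⟩ := exists_two_smul (he _) hne
    apply hi0
    have := congrArg (fun x => 2 ^ i • x) hc
    simp only [smul_zero] at this
    rw [smul_add, smul_add (2 ^ i) (a + t a), hi2, zero_add] at this
    exact this.symm
  obtain ⟨y, hy⟩ := hπ (0, 0, 1)
  have key : ∀ i, i ≤ e + 1 → ∀ x : A, 2 ^ i • x = 0 → s x = x → x + t x = 0 →
      ∃ b, x = b + s b := by
    intro i
    induction i with
    | zero => exact fun _ x hx _ _ => ⟨0, by simpa using hx⟩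
    | succ i ih =>
      intro hie x hx h1 h2
      have h3 : 2 ^ i • x + 2 ^ i • x = 0 := by rw [← add_smul, ← two_mul, ← pow_succ', hx]
      obtain ⟨v, hv⟩ := hΩ _ h3
      have : ∀ v : V3, t1 v = v → v + t2 v = 0 → v = 0 ∨ v = (0, 0, 1) + t1 (0, 0, 1) := by decide
      rcases this v (hi (by rw [← hs, hv, map_nsmul, h1]))
        (hi (by rw [map_add, ← ht, hv, map_nsmul, ← smul_add, h2, smul_zero, map_zero])) with h | h
      · exact ih (by omega) x (by rw [← hv, h, map_zero]) h1 h2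
      · obtain ⟨j, rfl⟩ : ∃ j, e = i + j := ⟨e - i, by omega⟩
        obtain ⟨b, hb⟩ := ih (by omega) (x - 2 ^ j • (y + s y))
          (by rw [smul_sub, smul_smul, ← pow_add, ← hv, h, map_add, ← hs, ← hy, map_nsmul, smul_add,
            sub_self])
          (by rw [map_sub, map_nsmul, map_add, ss, h1, add_comm])
          (by
            have : y + s y + t (y + s y) = 0 := T0 y
            rw [map_sub, map_nsmul, show x - 2 ^ j • (y + s y) + (t x - 2 ^ j • t (y + s y)) =
              x + t x - 2 ^ j • (y + s y + t (y + s y)) by rw [smul_add (2 ^ j) (y + s y)]; abel,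
              h2, this, smul_zero, sub_zero])
        refine ⟨b + 2 ^ j • y, ?_⟩
        rw [sub_eq_iff_eq_add.mp hb, map_add, map_nsmul, smul_add]; abel
  exact key (e + 1) le_rfl a (he a) ha hβ

end CL.Pyr
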