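import Cfsg.Agent.INV.Pyr.Frame

/-!
If the full linear group is induced on the elementary abelian group of all involutions, then the
dimension is three.
-/

set_option autoImplicit false

namespace CL.Pyr

open Subgroup CL.MSS

variable {G : Type*} [Group G] [Finite G] {W : Type*} [AddCommGroup W] [Module (ZMod 2) W]

theorem eq_two_of_pow {c a b : ℕ} (hc : c ≠ 0) (h : c ^ a = c ^ b * 2) : c = 2 := by
  have hc1 : c ≠ 1 := by rintro rfl; simp at h
  have hab : b ≤ a := (Nat.pow_le_pow_iff_right (show 1 < c by omega)).mp (by omega)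
  obtain ⟨k, rfl⟩ := Nat.exists_eq_add_of_le hab
  rw [pow_add] at h
  exact (Nat.prime_two.pow_eq_iff.mp (Nat.eq_of_mul_eq_mul_left (by positivity) h)).1

theorem dl_ne_one : lin (dl W) ≠ 1 := fun h => by
  have := DFunLike.congr_fun h (0, 1, 0)
  simp [lin_apply, dl_apply] at this

theorem sw_conj : lin (sw W) * lin (dl W) * (lin (sw W))⁻¹ = lin (dl W) ^ 2 := by
  rw [mul_inv_eq_iff_eq_mul]
  ext1 v
  obtain ⟨w, a, b⟩ := v
  change (w, a + b, b) = (w, b + a, a + (b + a))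
  simp only [Prod.mk.injEq, true_and]
  revert a b; decide

theorem sw_sq {ε : (W × ZMod 2 × ZMod 2) ≃ₗ[ZMod 2] (W × ZMod 2 × ZMod 2)}
    (h : ε ∈ zpowers (lin (dl W))) : (ε * lin (sw W)) ^ 2 ^ 1 = 1 ∧ ε * lin (sw W) ≠ 1 := by
  constructor
  · ext1 v
    obtain ⟨w, a, b⟩ := v
    rcases mem_zpowers_dl h with rfl | rfl | rfl
    · rfl
    · change (w, a, b + a + a) = (w, a, b)
      simp only [Prod.mk.injEq, true_and]
      revert a b; decide
    · change (w, a + (b + a) + (b + a), b + a + (a + (b + a) + (b + a))) = (w, a, b)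
      simp only [Prod.mk.injEq, true_and]
      revert a b; decide
  · intro e
    have e1 := DFunLike.congr_fun e (0, 1, 0)
    have e2 := DFunLike.congr_fun e (0, 0, 1)
    rcases mem_zpowers_dl h with rfl | rfl | rfl
    · have : ((0, 1) : ZMod 2 × ZMod 2) = (1, 0) := congrArg Prod.snd e1
      exact absurd this (by decide)
    · have : ((1, 0 + 1) : ZMod 2 × ZMod 2) = (1, 0) := congrArg Prod.snd e1
      exact absurd this (by decide)
    · have : ((1 + 0, 0 + (1 + 0)) : ZMod 2 × ZMod 2) = (0, 1) := congrArg Prod.snd e2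
      exact absurd this (by decide)

theorem card_W [Finite W] (F : Fr G (W × ZMod 2 × ZMod 2)) (h : Function.Surjective F.ρ) :
    Nat.card W = 2 := by
  have := Finite.of_surjective _ h
  have : Fact (Nat.Prime 3) := ⟨Nat.prime_three⟩
  set δ := lin (dl W) with hδ
  let Y := (zpowers δ).comap F.ρ
  obtain ⟨d, hd3, hd⟩ : ∃ d, (∃ i, d ^ 3 ^ i = 1) ∧ F.ρ d = δ := by
    obtain ⟨d0, h0⟩ := h δ
    obtain ⟨d, -, h1, h2⟩ := exists_ppart F.ρ (k := 1) Nat.prime_three d0 (by rw [h0]; exact dl_cube)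
    exact ⟨d, h1, h2.trans h0⟩
  obtain ⟨D, hD, hdD⟩ := exists_sylIn_ge (H := Y) (isPGroup_zpowers hd3.choose_spec)
    (zpowers_le.mpr (by change F.ρ d ∈ zpowers δ; rw [hd]; exact mem_zpowers _))
  replace hdD : d ∈ D := hdD (mem_zpowers d)
  have hN : ∀ γ ∈ normalizer (zpowers δ : Set _), ∃ g ∈ normalizer (D : Set G),
      ∃ ε ∈ zpowers δ, F.ρ g = ε * γ := by
    intro γ hγ
    obtain ⟨g0, rfl⟩ := h γ
    obtain ⟨n, hn, y, hy, rfl⟩ := hD.frattini (x := g0) (le_normalizer_comap F.ρ hγ)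
    exact ⟨y, hy, _, inv_mem (hn : F.ρ n ∈ zpowers δ), by simp⟩
  have hK : ∀ v, F.ι v ∈ normalizer (D : Set G) → v = (v.1, 0, 0) := by
    intro v hv
    have h1 : F.ι (v + δ v) ∈ D := by
      have := D.mul_mem ((mem_normalizer_iff.mp hv d).mp hdD) (D.inv_mem hdD)
      rwa [F.inv, mul_assoc, mul_assoc, ← mul_assoc d, F.conj, hd, ← F.add] at this
    obtain ⟨k, hk⟩ := isPGroup_iff_forall_mem.mp hD.pgroup _ h1
    have h2 : orderOf (F.ι (v + δ v)) = 1 := Nat.Coprime.eq_one_of_dvd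
      (((by norm_num : Nat.Coprime 2 3).pow_right k).coprime_dvd_left
        (orderOf_dvd_of_pow_eq_one (by rw [pow_two, F.sq]))) (orderOf_dvd_of_pow_eq_one hk)
    have h3 := F.eq_one.mp (orderOf_eq_one_iff.mp h2)
    exact eq_of_dl (add_left_cancel (h3.trans (add_self v).symm))
  have hK' : ∀ w, F.ι (w, 0, 0) ∈ normalizer (D : Set G) := fun w =>
    centralizer_le_normalizer _ fun g hg =>
      F.commute_iff.mpr (fix_of_mem_zpowers (hD.le hg : F.ρ g ∈ zpowers δ) w)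
  let Z : Subgroup G :=
    { carrier := {g | ∀ w, F.ρ g (w, 0, 0) = (w, 0, 0)}
      one_mem' := fun w => by simp
      mul_mem' := fun {a b} ha hb w => by rw [map_mul, LinearEquiv.mul_apply, hb, ha]
      inv_mem' := fun {a} ha w => by
        rw [map_inv, LinearEquiv.coe_inv, LinearEquiv.symm_apply_eq, ha] }
  let L := normalizer (D : Set G) ⊓ Z
  have hNW : ∀ g ∈ normalizer (D : Set G), ∀ w, ∃ w', F.ρ g (w, 0, 0) = (w', 0, 0) := fun g hg w =>
    ⟨_, hK _ (by rw [← F.conj]; exact mul_mem (mul_mem hg (hK' w)) (inv_mem hg))⟩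
  have hNL : normalizer (D : Set G) ≤ normalizer (L : Set G) := by
    refine le_normalizer_of_cj_le fun g hg => cj_le_iff_forall.mpr fun x hx =>
      ⟨(normalizer (D : Set G)).mul_mem (mul_mem hg hx.1) (inv_mem hg), fun w => ?_⟩
    obtain ⟨w', hw⟩ := hNW _ (inv_mem hg) w
    rw [map_mul, map_mul, LinearEquiv.mul_apply, LinearEquiv.mul_apply, hw, hx.2, ← hw,
      ← LinearEquiv.mul_apply, ← map_mul, mul_inv_cancel, map_one]
    rfl
  obtain ⟨y, hyL, hy2, hy1⟩ : ∃ y ∈ L, (∃ i, y ^ 2 ^ i = 1) ∧ y ∉ F.ρ.ker := by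
    obtain ⟨y, hy, ε, hε, e⟩ := hN (lin (sw W)) (mem_normalizer_of_cj_le (by
      rw [cj_zpowers, sw_conj]; exact zpowers_le.mpr (pow_mem (mem_zpowers _) 2)))
    obtain ⟨y', h1, h2, h3⟩ := exists_ppart F.ρ Nat.prime_two y (e ▸ (sw_sq hε).1)
    refine ⟨y', zpowers_le.mpr (show y ∈ L from ⟨hy, fun w => ?_⟩) h1, h2, fun h4 => ?_⟩
    · rw [e]; exact fix_of_mem_zpowers hε w
    · exact (sw_sq hε).2 (by rw [← e, ← h3]; exact h4)
  obtain ⟨S, hS, hyS⟩ := exists_sylIn_ge (H := L) (isPGroup_zpowers hy2.choose_spec)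
    (zpowers_le.mpr hyL)
  replace hyS : y ∈ S := hyS (mem_zpowers y)
  have hWS : ∀ w, F.ι (w, 0, 0) ∈ S := fun w =>
    F.ι_mem_syl hS ⟨hK' w, fun w' => F.mem_ker.mp (F.ι_mem _) _⟩ fun g hg => hg.2 w
  have ht : ∀ x ∈ S, ∀ x' ∈ S, x ≠ 1 → x * x = 1 → x' ≠ 1 → x' * x' = 1 →
      ∃ g ∈ normalizer (S : Set G), g * x * g⁻¹ = x' := by
    intro x hx x' hx' a b c e
    obtain ⟨v, rfl⟩ := F.all x b
    obtain ⟨v', rfl⟩ := F.all x' e
    have e1 := hK v (hS.le hx).1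
    have e2 := hK v' (hS.le hx').1
    obtain ⟨γ, hγ⟩ := exists_equiv (w := v.1) (w' := v'.1)
      (fun h => a (by rw [e1, h]; exact F.zero)) (fun h => c (by rw [e2, h]; exact F.zero))
    obtain ⟨g, hg, ε, hε, e3⟩ := hN (γ.prodCongr (LinearEquiv.refl _ _))
      (mem_normalizer_of_cj_le (by
        rw [cj_zpowers, show γ.prodCongr (LinearEquiv.refl _ _) * δ =
          δ * γ.prodCongr (LinearEquiv.refl _ _) from rfl, mul_inv_cancel_right]))
    obtain ⟨l, hl, g', hg', rfl⟩ := hS.frattini (hNL hg)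
    refine ⟨g', hg', ?_⟩
    rw [F.conj, e1, e2]
    congr 1
    apply (F.ρ l).injective
    rw [← LinearEquiv.mul_apply, ← map_mul, e3, hl.2, ← hγ]
    exact fix_of_mem_zpowers hε _
  have hc : ∀ T : Subgroup G, T ≤ S → (∀ w, F.ι (w, 0, 0) ∈ T) →
      Nat.card {z : T // z ^ 2 = 1} = Nat.card W := by
    intro T h1 h2
    refine (Nat.card_eq_of_bijective (fun w => ⟨⟨_, h2 w⟩, Subtype.ext (by
      rw [pow_two]; exact F.sq _)⟩) ⟨fun a b e => ?_, fun z => ?_⟩).symm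
    · exact congrArg Prod.fst (F.inj (congrArg (fun z => z.1.1) e))
    · obtain ⟨v, hv⟩ := F.all z.1.1 (by rw [← pow_two]; exact congrArg Subtype.val z.2)
      refine ⟨v.1, Subtype.ext (Subtype.ext ?_)⟩
      change F.ι (v.1, 0, 0) = _
      rw [← hK v (hv ▸ (hS.le (h1 z.1.2)).1), hv]
  obtain ⟨a, ha⟩ := card_pow_of_trans hS.pgroup (fun h => hy1 (by
    rw [h, mem_bot] at hyS; rw [hyS]; exact one_mem _)) ht
  obtain ⟨b, hb⟩ : ∃ b, Nat.card (S ⊓ F.ρ.ker : Subgroup G) = Nat.card W ^ b := by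
    by_cases h0 : S ⊓ F.ρ.ker = ⊥
    · exact ⟨0, by rw [h0]; simp⟩
    rw [← hc _ inf_le_left fun w => ⟨hWS w, F.ι_mem _⟩]
    refine card_pow_of_trans (hS.pgroup.to_le inf_le_left) h0 fun x hx x' hx' a b c e => ?_
    obtain ⟨g, hg, e⟩ := ht x hx.1 x' hx'.1 a b c e
    exact ⟨g, le_normalizer_inf le_rfl (by rw [F.ρ.ker.normalizer_eq_top]; exact le_top) hg, e⟩
  rw [hc _ le_rfl hWS] at ha
  have k1 : ∀ s ∈ S, F.ρ s * δ * (F.ρ s)⁻¹ = δ → s ∈ F.ρ.ker := by
    intro s hs e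
    obtain ⟨k, hk⟩ := isPGroup_iff_forall_mem.mp hS.pgroup _ hs
    have h3 := mem_zpowers_of_comm (mul_inv_eq_iff_eq_mul.mp e) (hS.le hs).2
    exact orderOf_eq_one_iff.mp (Nat.Coprime.eq_one_of_dvd
      (((by norm_num : Nat.Coprime 3 2).pow_right k).coprime_dvd_left
        (orderOf_dvd_of_pow_eq_one h3)) (orderOf_dvd_of_pow_eq_one (by rw [← map_pow, hk, map_one])))
  have k2 : ∀ s ∈ S, s ∉ F.ρ.ker → F.ρ s * δ * (F.ρ s)⁻¹ = δ ^ 2 := by
    intro s hs h1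
    have : F.ρ s * δ * (F.ρ s)⁻¹ ∈ zpowers δ := by
      have : F.ρ (s * d * s⁻¹) ∈ zpowers δ := hD.le ((mem_normalizer_iff.mp (hS.le hs).1 d).mp hdD)
      rwa [map_mul, map_mul, map_inv, hd] at this
    rcases mem_zpowers_dl this with e | e | e
    · exact absurd (by simpa using e) (dl_ne_one (W := W))
    · exact absurd (k1 s hs e) h1
    · exact e
  have hi : (S ⊓ F.ρ.ker).relIndex S = 2 := by
    refine relIndex_eq_two_iff_exists_notMem_and.mpr ⟨y, hyS, fun h => hy1 h.2, fun s hs => ?_⟩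
    by_cases h1 : s ∈ F.ρ.ker
    · exact Or.inr ⟨hs, h1⟩
    refine Or.inl ⟨S.mul_mem hs hyS, k1 _ (S.mul_mem hs hyS) ?_⟩
    calc F.ρ (s * y) * δ * (F.ρ (s * y))⁻¹ = F.ρ s * (F.ρ y * δ * (F.ρ y)⁻¹) * (F.ρ s)⁻¹ := by
          rw [map_mul]; group
      _ = (F.ρ s * δ * (F.ρ s)⁻¹) ^ 2 := by rw [k2 y hyS hy1, conj_pow]
      _ = δ ^ 3 * δ := by rw [k2 s hs h1]; group
      _ = δ := by rw [hδ, dl_cube, one_mul]
  have e := ((S ⊓ F.ρ.ker).subgroupOf S).card_mul_index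
  rw [Nat.card_congr (subgroupOfEquivOfLe inf_le_left).toEquiv, hb, ha] at e
  exact eq_two_of_pow Nat.card_pos.ne' (e.symm.trans (congrArg _ hi))

end CL.Pyr
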