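import Cfsg.Agent.INV.Pyr.AbThree
import Cfsg.Agent.FGS.NilpBasic
import Cfsg.Agent.TECH.SylIn
import Cfsg.Agent.S3774

/-!
Groups whose involutions form, with the identity, an elementary abelian subgroup: coordinates,
and the exclusion of the full linear group in dimensions other than three.
-/

set_option autoImplicit false

namespace CL.Pyr

open Subgroup CL.MSS

variable {G : Type*} [Group G]

theorem exists_ppart [Finite G] {H : Type*} [Group H] (f : G →* H) {p k : ℕ} (hp : p.Prime) (x : G)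
    (hx : f x ^ p ^ k = 1) : ∃ a ∈ zpowers x, (∃ i, a ^ p ^ i = 1) ∧ f a = f x := by
  obtain ⟨a, b, ha, ⟨j, hj⟩, hk, hb, e⟩ :=
    CL.FGS.exists_pPart_mul_pPrimePart hp x (isOfFinOrder_of_finite x)
  refine ⟨a, ha, hk, ?_⟩
  have h1 : f b ^ p ^ k = 1 := by
    rw [← hj, map_zpow, ← zpow_natCast, ← zpow_mul, mul_comm, zpow_mul, zpow_natCast, hx, one_zpow]
  have h2 : orderOf (f b) = 1 := Nat.Coprime.eq_one_of_dvd
    ((hb.coprime_dvd_left (orderOf_map_dvd f b)).pow_right k) (orderOf_dvd_of_pow_eq_one h1)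
  rw [e, map_mul, orderOf_eq_one_iff.mp h2, mul_one]

theorem comm_of_odd {A : Subgroup G} (hA : IsPGroup 2 A) (hc : ∀ a ∈ A, ∀ b ∈ A, a * b = b * a)
    {g : G} (hg : g ∈ normalizer (A : Set G)) (ho : (orderOf g).Coprime 2)
    (h : ∀ a ∈ A, a * a = 1 → Commute g a) {a : G} (ha : a ∈ A) : Commute g a := by
  obtain ⟨n, hn⟩ := isPGroup_iff_forall_mem.mp hA a ha
  induction n generalizing a with
  | zero => rw [show a = 1 by simpa using hn]; exact Commute.one_right g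
  | succ n ih =>
    have h1 : Commute g (a * a) := ih (A.mul_mem ha ha) (by rw [← pow_two, ← pow_mul, ← pow_succ', hn])
    have hb : g * a * g⁻¹ ∈ A := (mem_normalizer_iff.mp hg a).mp ha
    obtain ⟨b, e⟩ : ∃ b, b = g * a * g⁻¹ * a⁻¹ := ⟨_, rfl⟩
    have hbA : b ∈ A := e ▸ A.mul_mem hb (A.inv_mem ha)
    have h2 : b * b = 1 := by
      calc b * b = g * a * g⁻¹ * (a⁻¹ * (g * a * g⁻¹)) * a⁻¹ := by rw [e]; group
        _ = g * (a * a) * g⁻¹ * (a * a)⁻¹ := by rw [hc _ (A.inv_mem ha) _ hb]; group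
        _ = 1 := by rw [h1.eq]; group
    have h3 := h b hbA h2
    have h4 : ∀ m : ℕ, g ^ m * a = b ^ m * a * g ^ m := by
      intro m
      induction m with
      | zero => simp
      | succ m ihm =>
        calc g ^ (m + 1) * a = g * (g ^ m * a) := by rw [pow_succ', mul_assoc]
          _ = g * b ^ m * a * g ^ m := by rw [ihm]; group
          _ = b ^ m * (g * a * g⁻¹ * a⁻¹) * a * (g * g ^ m) := by rw [(h3.pow_right m).eq]; group
          _ = b ^ (m + 1) * a * g ^ (m + 1) := by rw [← e, pow_succ, pow_succ']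
    have h5 := h4 (orderOf g)
    rw [pow_orderOf_eq_one, one_mul, mul_one] at h5
    have h6 : b ^ orderOf g = 1 := by simpa using h5.symm
    have h7 : orderOf b = 1 := Nat.Coprime.eq_one_of_dvd
      (ho.coprime_dvd_left (orderOf_dvd_of_pow_eq_one h6))
      (orderOf_dvd_of_pow_eq_one (by rw [pow_two, h2]))
    rw [orderOf_eq_one_iff.mp h7] at e
    have : g * a = g * a * g⁻¹ * a⁻¹ * (a * g) := by group
    rw [← e, one_mul] at this
    exact this

theorem card_pow_of_trans [Finite G] {S : Subgroup G} (hS : IsPGroup 2 S) (h1 : S ≠ ⊥)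
    (ht : ∀ x ∈ S, ∀ y ∈ S, x ≠ 1 → x * x = 1 → y ≠ 1 → y * y = 1 →
      ∃ g ∈ normalizer (S : Set G), g * x * g⁻¹ = y) :
    ∃ m : ℕ, Nat.card S = Nat.card {z : S // z ^ 2 = 1} ^ m := by
  have := (nontrivial_iff_ne_bot S).mpr h1
  refine (Cfsg.Agent.S3774.result hS fun x y a b c d => ?_).2
  obtain ⟨g, hg, e⟩ := ht x x.2 y y.2 (fun h => a (Subtype.ext h))
    (by rw [← pow_two]; exact congrArg Subtype.val b) (fun h => c (Subtype.ext h))
    (by rw [← pow_two]; exact congrArg Subtype.val d)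
  exact ⟨S.normalizerMonoidHom ⟨g, hg⟩, Subtype.ext e⟩

theorem exists_inv_mem {S : Subgroup G} (hS : IsPGroup 2 S) {x : G} (hx : x ∈ S) (h1 : x ≠ 1) :
    ∃ y ∈ S, y ≠ 1 ∧ y * y = 1 := by
  obtain ⟨n, hn⟩ := isPGroup_iff_forall_mem.mp hS x hx
  induction n with
  | zero => exact absurd (by simpa using hn) h1
  | succ n ih =>
    by_cases h : x ^ 2 ^ n = 1
    · exact ih h
    · exact ⟨_, S.pow_mem hx _, h, by rw [← pow_add, ← two_mul, ← pow_succ', hn]⟩

/-- coordinates on the solutions of `x * x = 1` -/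
structure Fr (G U : Type*) [Group G] [AddCommGroup U] [Module (ZMod 2) U] where
  /-- the embedding -/
  ι : U → G
  add : ∀ a b, ι (a + b) = ι a * ι b
  inj : Function.Injective ι
  all : ∀ x : G, x * x = 1 → ∃ a, ι a = x
  /-- the action by conjugation -/
  ρ : G →* (U ≃ₗ[ZMod 2] U)
  conj : ∀ g a, g * ι a * g⁻¹ = ι (ρ g a)

theorem add_self {U : Type*} [AddCommGroup U] [Module (ZMod 2) U] (a : U) : a + a = 0 := by
  rw [← two_smul (ZMod 2) a, show (2 : ZMod 2) = 0 from rfl, zero_smul]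

/-- an additive equivalence as a linear one -/
def lin {U : Type*} [AddCommGroup U] [Module (ZMod 2) U] (g : U ≃+ U) : U ≃ₗ[ZMod 2] U :=
  g.toLinearEquiv fun c x => ZMod.map_smul g c x

theorem lin_apply {U : Type*} [AddCommGroup U] [Module (ZMod 2) U] (g : U ≃+ U) (v : U) :
    lin g v = g v := rfl

namespace Fr

variable {U : Type*} [AddCommGroup U] [Module (ZMod 2) U] (F : Fr G U)

/-- change of coordinates -/
def map {U' : Type*} [AddCommGroup U'] [Module (ZMod 2) U'] (e : U ≃ₗ[ZMod 2] U') : Fr G U' where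
  ι a := F.ι (e.symm a)
  add a b := by rw [map_add, F.add]
  inj := F.inj.comp e.symm.injective
  all x hx := by
    obtain ⟨a, rfl⟩ := F.all x hx
    exact ⟨e a, by simp⟩
  ρ := MonoidHom.mk' (fun g => (e.symm.trans (F.ρ g)).trans e) fun g h => by ext; simp
  conj g a := by simp [F.conj]

theorem map_surj {U' : Type*} [AddCommGroup U'] [Module (ZMod 2) U'] (e : U ≃ₗ[ZMod 2] U')
    (h : Function.Surjective F.ρ) : Function.Surjective (F.map e).ρ := by
  intro γ
  obtain ⟨g, hg⟩ := h ((e.trans γ).trans e.symm)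
  exact ⟨g, by ext; simp [map, hg]⟩

theorem zero : F.ι 0 = 1 := by simpa using F.add 0 0

theorem sq (a : U) : F.ι a * F.ι a = 1 := by rw [← F.add, add_self, F.zero]

theorem inv (a : U) : (F.ι a)⁻¹ = F.ι a := inv_eq_of_mul_eq_one_right (F.sq a)

theorem eq_one {a : U} : F.ι a = 1 ↔ a = 0 := by rw [← F.zero, F.inj.eq_iff]

theorem comm (a b : U) : Commute (F.ι a) (F.ι b) := by
  rw [Commute, SemiconjBy, ← F.add, ← F.add, add_comm]

theorem commute_iff {g : G} {a : U} : Commute g (F.ι a) ↔ F.ρ g a = a := by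
  rw [← F.inj.eq_iff, ← F.conj, mul_inv_eq_iff_eq_mul]; rfl

theorem mem_ker {g : G} : g ∈ F.ρ.ker ↔ ∀ a, F.ρ g a = a := by
  rw [MonoidHom.mem_ker, LinearEquiv.ext_iff]; rfl

theorem ι_mem (a : U) : F.ι a ∈ F.ρ.ker := F.mem_ker.mpr fun b => F.commute_iff.mp (F.comm a b)

theorem commute_of_mem {g : G} (hg : g ∈ F.ρ.ker) {x : G} (hx : x * x = 1) : Commute g x := by
  obtain ⟨a, rfl⟩ := F.all x hx
  exact F.commute_iff.mpr (F.mem_ker.mp hg a)

theorem ι_mem_syl {S L : Subgroup G} (hS : SylIn 2 S L) {a : U} (ha : F.ι a ∈ L)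
    (h : ∀ g ∈ L, F.ρ g a = a) : F.ι a ∈ S := by
  refine hS.le_of_normalizes (isPGroup_zpowers (k := 1) (by rw [pow_one, pow_two, F.sq]))
    (zpowers_le.mpr ha) (zpowers_le.mpr (centralizer_le_normalizer _ ?_)) (mem_zpowers _)
  exact fun g hg => F.commute_iff.mpr (h g (hS.le hg))

/-- Frattini argument for the kernel -/
theorem frat [Finite G] {C : Subgroup G} (hC : SylIn 2 C F.ρ.ker) (g : G) :
    ∃ y ∈ normalizer (C : Set G), F.ρ y = F.ρ g := by
  obtain ⟨n, hn, y, hy, rfl⟩ := hC.frattini (x := g) (by rw [normalizer_eq_top]; trivial)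
  exact ⟨y, hy, by rw [map_mul, hn, one_mul]⟩

end Fr

section D
variable {W : Type*} [AddCommGroup W] [Module (ZMod 2) W]

/-- the swap of the last two coordinates -/
def sw (W : Type*) [AddCommGroup W] : W × ZMod 2 × ZMod 2 ≃+ W × ZMod 2 × ZMod 2 :=
  (AddEquiv.refl W).prodCongr AddEquiv.prodComm

theorem dl_cube : lin (dl W) ^ 3 = 1 := by
  ext1 v
  obtain ⟨w, a, b⟩ := v
  simp only [pow_succ, pow_zero, LinearEquiv.mul_apply, LinearEquiv.coe_one, id, lin_apply, dl_apply,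
    Prod.mk.injEq, true_and]
  revert a b; decide

theorem mem_zpowers_dl {γ : (W × ZMod 2 × ZMod 2) ≃ₗ[ZMod 2] (W × ZMod 2 × ZMod 2)}
    (h : γ ∈ zpowers (lin (dl W))) : γ = 1 ∨ γ = lin (dl W) ∨ γ = lin (dl W) ^ 2 := by
  obtain ⟨k, rfl⟩ := h
  have e : lin (dl W) ^ k = lin (dl W) ^ (k % 3) := by
    conv_lhs => rw [← Int.mul_ediv_add_emod k 3, zpow_add, zpow_mul]
    rw [show lin (dl W) ^ (3 : ℤ) = 1 from dl_cube, one_zpow, one_mul]
  have : k % 3 = 0 ∨ k % 3 = 1 ∨ k % 3 = 2 := by omega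
  simp only [e]
  rcases this with h | h | h <;> rw [h]
  · simp
  · simp
  · exact Or.inr (Or.inr rfl)

theorem fix_of_mem_zpowers {γ : (W × ZMod 2 × ZMod 2) ≃ₗ[ZMod 2] (W × ZMod 2 × ZMod 2)}
    (h : γ ∈ zpowers (lin (dl W))) (w : W) : γ (w, 0, 0) = (w, 0, 0) := by
  rcases mem_zpowers_dl h with rfl | rfl | rfl <;> rfl

omit [Module (ZMod 2) W] in
theorem eq_of_dl {v : W × ZMod 2 × ZMod 2} (h : dl W v = v) : v = (v.1, 0, 0) := by
  obtain ⟨w, a, b⟩ := v
  simp only [dl_apply, Prod.mk.injEq, true_and] at h ⊢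
  revert a b; decide

theorem mem_zpowers_of_comm {γ : (W × ZMod 2 × ZMod 2) ≃ₗ[ZMod 2] (W × ZMod 2 × ZMod 2)}
    (h : γ * lin (dl W) = lin (dl W) * γ) (hw : ∀ w, γ (w, 0, 0) = (w, 0, 0)) : γ ^ 3 = 1 := by
  have h' : ∀ v, γ (dl W v) = dl W (γ v) := fun v => DFunLike.congr_fun h v
  obtain ⟨⟨w, a, b⟩, e⟩ : ∃ v, γ (0, 1, 0) = v := ⟨_, rfl⟩
  have e2 : γ (0, 0, 1) = (w, b, a + b) := by rw [← dl_apply (w, a, b), ← e, ← h']; rfl
  have e3 : γ (0, 1, 1) = (w, a + b, b + (a + b)) := by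
    rw [← dl_apply (w, b, a + b), ← e2, ← h']; rfl
  have e4 : γ (0, 1, 1) = γ (0, 1, 0) + γ (0, 0, 1) := by rw [← map_add]; simp
  rw [e3, e, e2] at e4
  have hw0 : w = 0 := by
    have := congrArg Prod.fst e4
    simpa using this
  subst hw0
  have hne : ¬ (a = 0 ∧ b = 0) := by
    rintro ⟨rfl, rfl⟩
    have := γ.injective (e.trans (map_zero γ).symm)
    simp at this
  have ev : ∀ v : W × ZMod 2 × ZMod 2,
      γ v = (v.1, v.2.1 * a + v.2.2 * b, v.2.1 * b + v.2.2 * (a + b)) := by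
    rintro ⟨w, x, y⟩
    have : (w, x, y) = ((w, 0, 0) : W × ZMod 2 × ZMod 2) + x • (0, 1, 0) + y • (0, 0, 1) := by simp
    rw [this, map_add, map_add, map_smul, map_smul, hw, e, e2]
    simp
  ext1 v
  obtain ⟨w, x, y⟩ := v
  simp only [pow_succ, pow_zero, LinearEquiv.mul_apply, LinearEquiv.coe_one, id, ev,
    Prod.mk.injEq, true_and]
  clear e e2 e3 e4 ev
  revert a b x y; decide

theorem exists_equiv [Finite W] {w w' : W} (hw : w ≠ 0) (hw' : w' ≠ 0) :
    ∃ g : W ≃ₗ[ZMod 2] W, g w = w' := by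
  obtain ⟨g, hg⟩ := Submodule.exists_linearEquiv_restrict_eq
    ((LinearEquiv.toSpanNonzeroSingleton (ZMod 2) W w hw).symm.trans
      (LinearEquiv.toSpanNonzeroSingleton (ZMod 2) W w' hw'))
  have := hg (LinearEquiv.toSpanNonzeroSingleton (ZMod 2) W w hw 1)
  simp only [LinearEquiv.trans_apply, LinearEquiv.symm_apply_apply] at this
  exact ⟨g, by simpa using this.symm⟩

end D

end CL.Pyr
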