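import Mathlib

/-!
An anisotropic quadratic map to the three-dimensional space over the field with two elements that
is equivariant for the whole general linear group of the target is additive.
-/

set_option autoImplicit false

namespace CL.Pyr

open Polynomial

/-- the three-dimensional space -/
abbrev V3 := ZMod 2 × ZMod 2 × ZMod 2

theorem z2ne {a : ZMod 2} (h : a ≠ 0) : a = 1 := by revert a; decide

theorem z2self (a : ZMod 2) : a + a = 0 := by revert a; decide

/-- the sign character -/
def sg (a : ZMod 2) : ℤ := if a = 0 then 1 else -1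

theorem sg_add (a b : ZMod 2) : sg (a + b) = sg a * sg b := by revert a b; decide
theorem sg_zero : sg 0 = 1 := rfl
theorem sg_one : sg 1 = -1 := rfl

theorem sum_sg {X : Type*} [AddCommGroup X] [Fintype X] (φ : X →+ ZMod 2) {x : X} (hx : φ x = 1) :
    ∑ y, sg (φ y) = 0 := by
  have h := Equiv.sum_comp (Equiv.addRight x) fun y => sg (φ y)
  simp only [Equiv.coe_addRight, map_add, hx, sg_add, sg_one, mul_neg, mul_one,
    Finset.sum_neg_distrib] at h
  omega

theorem trace_eq_one {X : Type*} [AddCommGroup X] [Module (ZMod 2) X] [Module.Finite (ZMod 2) X]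
    (h6 : Module.finrank (ZMod 2) X = 6) (J : Module.End (ZMod 2) X) (h : X ≃ₗ[ZMod 2] X)
    (e : ∀ x, J (h x) = h (J x + x)) : LinearMap.trace (ZMod 2) X J = 1 := by
  classical
  have e1 : h.conj (J - (1 : ZMod 2) • 1) = J := by
    ext x
    obtain ⟨x, rfl⟩ := h.surjective x
    rw [LinearEquiv.conj_apply_apply, h.symm_apply_apply, e]
    congr 1
    have : x + x = 0 := by rw [← two_smul (ZMod 2) x, show (2 : ZMod 2) = 0 from rfl, zero_smul]
    simp only [one_smul, LinearMap.sub_apply, Module.End.one_apply]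
    rw [sub_eq_add_neg, neg_eq_of_add_eq_zero_left this]
  have e2 : J.charpoly.comp (Polynomial.X + C 1) = J.charpoly := by
    rw [← LinearMap.charpoly_sub_smul, ← h.charpoly_conj, e1]
  have hd : J.charpoly.natDegree = 6 := by rw [LinearMap.charpoly_natDegree, h6]
  have hm : J.charpoly.coeff 6 = 1 := by rw [← hd]; exact J.charpoly_monic
  have e3 := congrArg (fun p => p.coeff 4) e2
  simp only [Polynomial.comp] at e3
  rw [eval₂_eq_sum_range' _ (show J.charpoly.natDegree < 7 by omega), finsetSum_coeff] at e3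
  simp only [coeff_C_mul, coeff_X_add_C_pow, Finset.sum_range_succ, Finset.sum_range_zero, hm,
    Nat.choose, one_pow, one_mul] at e3
  have e5 : J.charpoly.coeff 5 = 1 := by
    revert e3
    generalize J.charpoly.coeff 5 = a
    generalize J.charpoly.coeff 4 = b
    generalize J.charpoly.coeff 3 = c
    generalize J.charpoly.coeff 2 = d
    generalize J.charpoly.coeff 1 = f
    generalize J.charpoly.coeff 0 = g
    revert a b c d f g
    decide
  let b := Module.finBasisOfFinrankEq (ZMod 2) X h6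
  rw [LinearMap.trace_eq_matrix_trace (ZMod 2) b, Matrix.trace_eq_neg_charpoly_coeff,
    LinearMap.charpoly_toMatrix, Fintype.card_fin, e5]
  rfl

/-- a transvection -/
def tv {V : Type*} [AddCommGroup V] [Module (ZMod 2) V] (f : V →+ ZMod 2) (a : V) (ha : f a = 0) :
    V ≃+ V where
  toFun v := v + f v • a
  invFun v := v + f v • a
  left_inv v := by
    have h : f (f v • a) = 0 := by rw [ZMod.map_smul f, ha, smul_zero]
    simp only [map_add, h, add_zero]
    rw [add_assoc, ← add_smul, z2self, zero_smul, add_zero]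
  right_inv v := by
    have h : f (f v • a) = 0 := by rw [ZMod.map_smul f, ha, smul_zero]
    simp only [map_add, h, add_zero]
    rw [add_assoc, ← add_smul, z2self, zero_smul, add_zero]
  map_add' v w := by rw [map_add, add_smul]; abel

theorem tv_apply {V : Type*} [AddCommGroup V] [Module (ZMod 2) V] (f : V →+ ZMod 2) (a : V)
    (ha : f a = 0) (v : V) : tv f a ha v = v + f v • a := rfl

/-- the standard pairing -/
def dt (c : V3) : V3 →+ ZMod 2 where
  toFun v := c.1 * v.1 + c.2.1 * v.2.1 + c.2.2 * v.2.2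
  map_zero' := by simp
  map_add' v w := by simp only [Prod.fst_add, Prod.snd_add]; ring

theorem dt_apply (c v : V3) : dt c v = c.1 * v.1 + c.2.1 * v.2.1 + c.2.2 * v.2.2 := rfl

theorem exists_v3 {v w : V3} (hv : v ≠ 0) (hw : w ≠ 0) : ∃ g : V3 ≃+ V3, g v = w := by
  have : ∀ v w : V3, v ≠ 0 → w ≠ 0 → ∃ c : V3, dt c (v + w) = 0 ∧ v + dt c v • (v + w) = w := by
    simp only [dt_apply]; decide
  obtain ⟨c, h1, h2⟩ := this v w hv hw
  exact ⟨tv (dt c) (v + w) h1, h2⟩

theorem exists_v3' {a b w : V3} (ha : a ≠ 0) (h0 : w ≠ 0) (h1 : w ≠ a) (h2 : w ≠ b)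
    (h3 : w ≠ a + b) : ∃ g : V3 ≃+ V3, g a = a ∧ g b = b ∧ g w ≠ w := by
  have : ∀ a b w : V3, w ≠ 0 → w ≠ a → w ≠ b → w ≠ a + b → ∃ c : V3, dt c a = 0 ∧
      dt c b = 0 ∧ dt c w = 1 := by
    decide +kernel
  obtain ⟨c, k1, k2, k3⟩ := this a b w h0 h1 h2 h3
  refine ⟨tv (dt c) a k1, ?_, ?_, ?_⟩ <;> simp [tv_apply, k1, k2, k3, ha]

section
variable {X : Type*} [AddCommGroup X] [Fintype X] {q : X → V3} {B : X →+ X →+ V3}

theorem gauss (hq : ∀ x y, q (x + y) = q x + q y + B x y) (ν : V3 →+ ZMod 2) :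
    (∑ x, sg (ν (q x))) ^ 2 = 0 ∨
      (∑ x, sg (ν (q x))) ^ 2 = Fintype.card X * Nat.card {y // ∀ x, ν (B x y) = 0} := by
  classical
  have e1 : (∑ x, sg (ν (q x))) ^ 2 = ∑ y, sg (ν (q y)) * ∑ x, sg (ν (B x y)) := by
    rw [sq, Finset.sum_mul]
    simp only [Finset.mul_sum]
    rw [Finset.sum_comm' (s := Finset.univ) (t := fun _ => Finset.univ) (t' := Finset.univ)
      (s' := fun _ => Finset.univ) (f := fun y x => sg (ν (q y)) * sg (ν (B x y))) (by simp)]
    refine Finset.sum_congr rfl fun x _ => ?_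
    rw [← Equiv.sum_comp (Equiv.addLeft x)]
    refine Finset.sum_congr rfl fun y _ => ?_
    simp only [Equiv.coe_addLeft, hq, map_add, ← sg_add]
    congr 1
    rw [← add_assoc, ← add_assoc, z2self, zero_add]
  let R : AddSubgroup X :=
    { carrier := {y | ∀ x, ν (B x y) = 0}
      zero_mem' := fun x => by simp
      add_mem' := fun {a b} ha hb x => by rw [map_add, map_add, ha x, hb x, add_zero]
      neg_mem' := fun {a} ha x => by rw [map_neg, map_neg, ha x, neg_zero] }
  have e2 : ∀ y, ∑ x, sg (ν (B x y)) = if y ∈ R then (Fintype.card X : ℤ) else 0 := by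
    intro y
    split_ifs with h
    · rw [Finset.sum_congr rfl fun x _ => congrArg sg (h x)]
      simp [sg_zero]
    · obtain ⟨x, hx⟩ := not_forall.mp h
      exact sum_sg (ν.comp (B.flip y)) (x := x) (z2ne hx)
  have h0 : q 0 = 0 := by simpa using hq 0 0
  let φ : R →+ ZMod 2 :=
    { toFun := fun y => ν (q y)
      map_zero' := by simp [h0]
      map_add' := fun a b => by
        simp only [AddSubgroup.coe_add, hq, map_add, b.2 a, add_zero] }
  have e3 : (∑ x, sg (ν (q x))) ^ 2 = Fintype.card X * ∑ y : R, sg (φ y) := by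
    rw [e1, Finset.mul_sum]
    simp only [e2, mul_ite, mul_zero]
    rw [← Finset.sum_filter, Finset.sum_subtype (p := fun y => y ∈ R) _ (by simp)]
    exact Finset.sum_congr rfl fun y _ => mul_comm _ _
  by_cases hφ : ∀ y, φ y = 0
  · right
    rw [e3, Finset.sum_congr rfl fun y _ => congrArg sg (hφ y)]
    simp only [sg_zero, Finset.sum_const, Finset.card_univ, nsmul_eq_mul, mul_one]
    rw [← Nat.card_eq_fintype_card (α := R)]
    rfl
  · left
    obtain ⟨y, hy⟩ := not_forall.mp hφ
    rw [e3, sum_sg φ (z2ne hy), mul_zero]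

theorem fibers (h0 : ∀ x, q x = 0 ↔ x = 0)
    (hG : ∀ g : V3 ≃+ V3, ∃ h : X ≃+ X, ∀ x, q (h x) = g (q x)) :
    ∃ f : ℕ, (∀ v, v ≠ 0 → Nat.card {x // q x = v} = f) ∧ Fintype.card X = 1 + 7 * f ∧
      ∑ x, sg (dt (1, 0, 0) (q x)) = 1 - f := by
  classical
  have hf : ∀ v, v ≠ 0 → Nat.card {x // q x = v} = Nat.card {x // q x = (1, 0, 0)} := by
    intro v hv
    obtain ⟨g, hg⟩ := exists_v3 hv (show ((1, 0, 0) : V3) ≠ 0 by decide)
    obtain ⟨h, hh⟩ := hG g
    refine Nat.card_congr (h.toEquiv.subtypeEquiv fun x => ?_)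
    change _ ↔ q (h x) = _
    rw [hh, ← hg, g.apply_eq_iff_eq]
  refine ⟨_, hf, ?_⟩
  generalize Nat.card {x // q x = (1, 0, 0)} = f at hf
  have key : ∀ F : V3 → ℤ, ∑ x, F (q x) = F 0 + f * (∑ v, F v - F 0) := by
    intro F
    rw [← Finset.sum_fiberwise_of_maps_to (s := Finset.univ) (t := Finset.univ) (g := q) (by simp)]
    have : ∀ v, ∑ x with q x = v, F (q x) = (if v = 0 then 1 else (f : ℤ)) * F v := by
      intro v
      rw [Finset.sum_congr rfl (g := fun _ => F v) fun x hx => by
        rw [(Finset.mem_filter.mp hx).2], Finset.sum_const, nsmul_eq_mul]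
      congr 1
      split_ifs with hv
      · have : Finset.univ.filter (fun x => q x = v) = {0} := by ext x; simp [hv, h0]
        rw [this]; rfl
      · rw [← hf v hv, Nat.card_eq_fintype_card, Fintype.card_subtype]
    simp only [this]
    rw [← Finset.add_sum_erase _ _ (Finset.mem_univ (0 : V3)),
      ← Finset.add_sum_erase _ F (Finset.mem_univ (0 : V3)), if_pos rfl, one_mul,
      add_sub_cancel_left, Finset.mul_sum]
    refine congrArg _ (Finset.sum_congr rfl fun v hv => ?_)
    rw [if_neg (Finset.ne_of_mem_erase hv)]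
  constructor
  · have := key fun _ => 1
    simp only [Finset.sum_const, Finset.card_univ, nsmul_eq_mul, mul_one] at this
    rw [show Fintype.card V3 = 8 from rfl] at this
    push_cast at this
    omega
  · rw [key fun v => sg (dt (1, 0, 0) v), sum_sg (dt (1, 0, 0)) (x := (1, 0, 0)) (by decide),
      map_zero, sg_zero]
    ring

omit [Fintype X] in
theorem B_equiv (hq : ∀ x y, q (x + y) = q x + q y + B x y) {g : V3 ≃+ V3} {h : X ≃+ X}
    (hh : ∀ x, q (h x) = g (q x)) (x y : X) : B (h x) (h y) = g (B x y) := by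
  have e := hq (h x) (h y)
  rw [← map_add, hh, hh, hh, hq, map_add, map_add] at e
  exact (add_left_cancel e).symm

theorem not_nondeg (h2 : ∀ x : X, x + x = 0) (hq : ∀ x y, q (x + y) = q x + q y + B x y)
    (hG : ∀ g : V3 ≃+ V3, ∃ h : X ≃+ X, ∀ x, q (h x) = g (q x)) (hc : Fintype.card X = 64)
    (hn : ∀ y, (∀ x, dt (1, 0, 0) (B x y) = 0) → y = 0) : False := by
  let _ : Module (ZMod 2) X := AddCommGroup.zmodModule fun x => by rw [two_nsmul, h2]
  have h6 : Module.finrank (ZMod 2) X = 6 := by
    have := Module.card_eq_pow_finrank (K := ZMod 2) (V := X)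
    rw [hc, ZMod.card] at this
    exact (Nat.pow_right_injective le_rfl (show 2 ^ 6 = 2 ^ _ from this)).symm
  let φ : V3 → X →ₗ[ZMod 2] Module.Dual (ZMod 2) X := fun c =>
    AddMonoidHom.toZModLinearMap 2
      { toFun := fun y => AddMonoidHom.toZModLinearMap 2 ((dt c).comp (B.flip y))
        map_zero' := by ext x; simp
        map_add' := fun a b => by ext x; simp }
  have hφ : ∀ c y x, φ c y x = dt c (B x y) := fun c y x => rfl
  have hi : Function.Injective (φ (1, 0, 0)) := by
    rw [injective_iff_map_eq_zero]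
    exact fun y hy => hn y fun x => by rw [← hφ, hy]; rfl
  let e := LinearMap.linearEquivOfInjective _ hi Subspace.dual_finrank_eq.symm
  let J : V3 → Module.End (ZMod 2) X := fun c => e.symm.toLinearMap ∘ₗ φ c
  have hJ : ∀ c y x, dt (1, 0, 0) (B x (J c y)) = dt c (B x y) := by
    intro c y x
    rw [← hφ, ← hφ]
    exact congrArg (fun f : Module.Dual (ZMod 2) X => f x) (e.apply_symm_apply (φ c y))
  have ht : ∀ c a : V3, dt (1, 0, 0) a = 0 → dt c a = 1 →
      LinearMap.trace (ZMod 2) X (J c) = 1 := by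
    intro c a h1 h3
    obtain ⟨h, hh⟩ := hG (tv (dt (1, 0, 0)) a h1)
    refine trace_eq_one h6 _ (h.toLinearEquiv fun c x => ZMod.map_smul h c x) fun y => ?_
    apply hi
    ext x
    obtain ⟨x, rfl⟩ := h.surjective x
    change φ _ (J c (h y)) (h x) = φ _ (h (J c y + y)) (h x)
    rw [hφ, hφ, hJ, B_equiv hq hh, B_equiv hq hh, tv_apply, tv_apply]
    simp only [map_add, ZMod.map_smul, h1, h3, hJ, mul_zero, add_zero, smul_eq_mul, mul_one]
  have hs : J (0, 1, 1) = J (0, 1, 0) + J (0, 0, 1) := by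
    ext y
    apply hi
    ext x
    rw [hφ, hφ, hJ, LinearMap.add_apply, map_add, map_add, hJ, hJ]
    simp [dt_apply]
  have := ht (0, 1, 1) (0, 1, 0) (by decide) (by decide)
  rw [hs, map_add, ht (0, 1, 0) (0, 1, 0) (by decide) (by decide),
    ht (0, 0, 1) (0, 0, 1) (by decide) (by decide)] at this
  exact absurd this (by decide)

theorem quad_zero (h2 : ∀ x : X, x + x = 0) (hq : ∀ x y, q (x + y) = q x + q y + B x y)
    (h0 : ∀ x, q x = 0 ↔ x = 0)
    (hG : ∀ g : V3 ≃+ V3, ∃ h : X ≃+ X, ∀ x, q (h x) = g (q x)) (x y : X) : B x y = 0 := by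
  obtain ⟨f, hf, hc, hS⟩ := fibers h0 hG
  have v2 : ∀ v : V3, v + v = 0 := by decide
  have one : f ≤ 1 → B x y = 0 := by
    intro h1
    have inj : ∀ a b, q a = q b → a = b := by
      intro a b e
      by_cases ha : q a = 0
      · rw [(h0 a).mp ha, (h0 b).mp (e ▸ ha)]
      · have : Subsingleton {x // q x = q a} := Finite.card_le_one_iff_subsingleton.mp
          ((hf _ ha).le.trans h1)
        exact congrArg Subtype.val (Subsingleton.elim (⟨a, rfl⟩ : {x // q x = q a}) ⟨b, e.symm⟩)
    by_cases hx : x = 0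
    · simp [hx]
    by_cases hy : y = 0
    · simp [hy]
    by_cases hxy : x + y = 0
    · have e := hq x y
      have : y = x := by rw [← add_zero y, ← hxy, add_comm x y, ← add_assoc, h2, zero_add]
      rw [hxy, (h0 0).mpr rfl, this, v2, zero_add] at e
      rw [this, ← e]
    by_contra hB
    obtain ⟨g, g1, g2, g3⟩ := exists_v3' (a := q x) (b := q y) (w := q (x + y))
      (fun h => hx ((h0 _).mp h)) (fun h => hxy ((h0 _).mp h))
      (fun h => hy (by simpa using inj _ _ h)) (fun h => hx (by simpa using inj _ _ h))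
      (fun h => hB (by simpa [hq] using h))
    obtain ⟨h, hh⟩ := hG g
    apply g3
    rw [← hh, map_add, inj _ _ ((hh x).trans g1), inj _ _ ((hh y).trans g2)]
  by_contra hB
  have hf2 : 2 ≤ f := by by_contra h; exact hB (one (by omega))
  rcases gauss hq (dt (1, 0, 0)) with h | h
  · rw [hS, sq_eq_zero_iff] at h
    omega
  · rw [hS] at h
    generalize hρ : Nat.card {y // ∀ x, dt (1, 0, 0) (B x y) = 0} = ρ at h
    have hd : (Fintype.card X : ℤ) ∣ 64 := by
      refine ⟨49 * ρ - Fintype.card X + 16, ?_⟩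
      have : (Fintype.card X : ℤ) = 1 + 7 * f := by exact_mod_cast hc
      linear_combination 49 * h + ((Fintype.card X : ℤ) - 15 + 7 * f) * this
    have hd' : Fintype.card X ∣ 64 := by exact_mod_cast hd
    have h64 : Fintype.card X = 64 := by
      have := Nat.le_of_dvd (by norm_num) hd'
      rw [hc] at hd' this ⊢
      have : f ≤ 9 := by omega
      interval_cases f <;> simp_all
    have hf9 : f = 9 := by omega
    rw [h64, hf9] at h
    have h1 : ρ = 1 := by push_cast at h; omega
    refine not_nondeg h2 hq hG h64 fun y hy => ?_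
    have : Subsingleton {y // ∀ x, dt (1, 0, 0) (B x y) = 0} :=
      Finite.card_le_one_iff_subsingleton.mp (hρ.trans h1).le
    exact congrArg Subtype.val (Subsingleton.elim
      (⟨y, hy⟩ : {y // ∀ x, dt (1, 0, 0) (B x y) = 0}) ⟨0, fun x => by simp⟩)

end

end CL.Pyr
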